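import Groth.Agent.Lib.LimH13.SubAlgLimit
import Groth.Agent.Lib.Descend.SmoothEtale

/-!
# Spreading out over finitely generated subalgebras and specialisation at a closed point
-/

universe u

open CategoryTheory CategoryTheory.Limits AlgebraicGeometry Opposite

set_option backward.isDefEq.respectTransparency false
set_option backward.isDefEq.respectTransparency.types false
set_option backward.defeqAttrib.useBackward true
set_option linter.style.haveILetI false

noncomputable section

namespace Groth.Agent.FieldExt12

variable (R K : Type u) [CommRing R] [CommRing K] [Algebra R K]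

/-- Finitely generated subalgebras. -/
def Idx : Type u := {B : Subalgebra R K // B.FG}

instance : Preorder (Idx R K) := inferInstanceAs (Preorder (Subtype _))

instance : Nonempty (Idx R K) := ⟨⟨⊥, Subalgebra.fg_bot⟩⟩

instance : IsDirected (Idx R K) (· ≤ ·) :=
  ⟨fun a b => ⟨⟨a.1 ⊔ b.1, a.2.sup b.2⟩, le_sup_left (a := a.1) (b := b.1),
    le_sup_right (a := a.1) (b := b.1)⟩⟩

/-- The system of finitely generated subalgebras. -/
def ring : Idx R K ⥤ CommRingCat.{u} where
  obj i := CommRingCat.of i.1
  map {i j} a := CommRingCat.ofHom (Subalgebra.inclusion (a.le : i.1 ≤ j.1)).toRingHom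
  map_id _ := rfl
  map_comp _ _ := rfl

/-- The algebra as a cocone. -/
def cocone : Cocone (ring R K) where
  pt := CommRingCat.of K
  ι := { app := fun i => CommRingCat.ofHom i.1.val.toRingHom, naturality := fun _ _ _ => rfl }

/-- An algebra is the colimit of its finitely generated subalgebras. -/
def isColimitCocone : IsColimit (cocone R K) :=
  LimH13.SubAlg.isColimitOfInjective (cocone R K) (fun i => Subtype.val_injective) fun (x : K) =>
    ⟨⟨Algebra.adjoin R {x}, Subalgebra.fg_adjoin_finset (R := R) {x} |> fun h => by simpa using h⟩,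
      ⟨x, Algebra.subset_adjoin rfl⟩, rfl⟩

/-- The system of spectra. -/
def sys : (Idx R K)ᵒᵖ ⥤ Scheme.{u} := (ring R K).op ⋙ Scheme.Spec

/-- The spectrum of the algebra as a cone. -/
def cone : Cone (sys R K) := Scheme.Spec.mapCone (cocone R K).op

/-- The spectrum of an algebra is the limit of those of its finitely generated subalgebras. -/
def isLimitCone : IsLimit (cone R K) :=
  isLimitOfPreserves Scheme.Spec (isColimitCocone R K).op

instance : IsCofiltered (Idx R K)ᵒᵖ := by
  haveI : IsFiltered (Idx R K) := isFiltered_of_directed_le_nonempty _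
  infer_instance

/-- The structure maps of the system. -/
def str : sys R K ⟶ (Functor.const _).obj (Spec (CommRingCat.of R)) where
  app i := Spec.map (CommRingCat.ofHom (algebraMap R i.unop.1))
  naturality i j a := by
    show Spec.map _ ≫ Spec.map _ = _ ≫ 𝟙 _
    rw [Category.comp_id, ← Spec.map_comp]
    rfl

instance (i : (Idx R K)ᵒᵖ) : IsAffineHom ((str R K).app i) :=
  inferInstanceAs (IsAffineHom (Spec.map _))

theorem cone_str (i : (Idx R K)ᵒᵖ) :
    (cone R K).π.app i ≫ (str R K).app i = Spec.map (CommRingCat.ofHom (algebraMap R K)) := by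
  show Spec.map _ ≫ Spec.map _ = _
  rw [← Spec.map_comp]
  rfl

variable {R K}

/-- An isomorphism over the spectrum of an algebra between base changes of finitely presented
schemes is defined over a finitely generated subalgebra. -/
theorem exists_fg_iso {X Y : Scheme.{u}} (p : X ⟶ Spec (CommRingCat.of R))
    (q : Y ⟶ Spec (CommRingCat.of R)) [LocallyOfFinitePresentation p] [QuasiCompact p]
    [QuasiSeparated p] [LocallyOfFinitePresentation q] [QuasiCompact q] [QuasiSeparated q]
    (e : pullback p (Spec.map (CommRingCat.ofHom (algebraMap R K))) ≅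
      pullback q (Spec.map (CommRingCat.ofHom (algebraMap R K))))
    (he : e.hom ≫ pullback.snd q _ = pullback.snd p _) :
    ∃ A : Subalgebra R K, A.FG ∧
      ∃ a : pullback p (Spec.map (CommRingCat.ofHom (algebraMap R A))) ≅
        pullback q (Spec.map (CommRingCat.ofHom (algebraMap R A))),
        a.hom ≫ pullback.snd q _ = pullback.snd p _ := by
  have h' : IsPullback (e.hom ≫ pullback.fst q _) (pullback.snd p _) q
      (Spec.map (CommRingCat.ofHom (algebraMap R K))) :=
    IsPullback.of_iso (IsPullback.of_hasPullback q _) e.symm (Iso.refl _) (Iso.refl _) (Iso.refl _)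
      (by simp) (by simp [← he]) (by simp) (by simp)
  obtain ⟨j, m, hm, hms⟩ := Descend.exists_stageIso (D := sys R K) (t := str R K) (f := p)
    (c := cone R K) (isLimitCone R K) q (cone_str R K)
    (IsPullback.of_hasPullback p (Spec.map (CommRingCat.ofHom (algebraMap R K)))) h'
  exact ⟨j.unop.1, j.unop.2, @asIso _ _ _ _ m hm, hms⟩

/-- The iterated base change. -/
def bcIso {X S T U : Scheme.{u}} (p : X ⟶ S) (t : T ⟶ S) (v : U ⟶ T) :
    pullback (pullback.snd p t) v ≅ pullback p (v ≫ t) :=
  pullbackLeftPullbackSndIso p t v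

/-- Base change of an isomorphism over the base. -/
theorem exists_bc_iso {X Y S T U : Scheme.{u}} (p : X ⟶ S) (q : Y ⟶ S) (t : T ⟶ S) (v : U ⟶ T)
    (w : U ⟶ S) (hw : v ≫ t = w) (a : pullback p t ≅ pullback q t)
    (ha : a.hom ≫ pullback.snd q t = pullback.snd p t) :
    ∃ b : pullback p w ≅ pullback q w, b.hom ≫ pullback.snd q w = pullback.snd p w := by
  subst hw
  let m : pullback (pullback.snd p t) v ≅ pullback (pullback.snd q t) v :=
    asIso (pullback.map (pullback.snd p t) v (pullback.snd q t) v a.hom (𝟙 _) (𝟙 _)
      (by rw [Category.comp_id, ha]) (by simp))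
  refine ⟨(bcIso p t v).symm ≪≫ m ≪≫ bcIso q t v, ?_⟩
  simp only [Iso.trans_hom, Iso.symm_hom, bcIso, m, asIso_hom, Category.assoc,
    pullbackLeftPullbackSndIso_hom_snd, pullback.lift_snd, Category.comp_id,
    Iso.inv_comp_eq, pullbackLeftPullbackSndIso_hom_snd]

/-- A finitely generated nonzero algebra over a field has a point in a finite extension. -/
theorem exists_finite_point {k : Type u} [Field k] (A : Type u) [CommRing A] [Nontrivial A]
    [Algebra k A] [Algebra.FiniteType k A] :
    ∃ (k' : Type u) (_ : Field k') (_ : Algebra k k'), Module.Finite k k' ∧ Nonempty (A →ₐ[k] k') := by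
  obtain ⟨m, hm⟩ := Ideal.exists_maximal A
  letI := Ideal.Quotient.field m
  haveI : Algebra.FiniteType k (A ⧸ m) :=
    Algebra.FiniteType.of_surjective (Ideal.Quotient.mkₐ k m) Ideal.Quotient.mk_surjective
  exact ⟨A ⧸ m, inferInstance, inferInstance, finite_of_finite_type_of_isJacobsonRing k (A ⧸ m),
    ⟨Ideal.Quotient.mkₐ k m⟩⟩

/-- Isomorphism over some extension field gives isomorphism over a finite extension. -/
theorem exists_iso_finite {k : Type u} [Field k] {X Y : Scheme.{u}}
    (p : X ⟶ Spec (CommRingCat.of k)) (q : Y ⟶ Spec (CommRingCat.of k))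
    [LocallyOfFiniteType p] [QuasiCompact p] [LocallyOfFiniteType q] [QuasiCompact q]
    {K : Type u} [Field K] [Algebra k K]
    (e : pullback p (Spec.map (CommRingCat.ofHom (algebraMap k K))) ≅
      pullback q (Spec.map (CommRingCat.ofHom (algebraMap k K))))
    (he : e.hom ≫ pullback.snd q _ = pullback.snd p _) :
    ∃ (k' : Type u) (_ : Field k') (_ : Algebra k k') (_ : Module.Finite k k')
      (e' : pullback p (Spec.map (CommRingCat.ofHom (algebraMap k k'))) ≅
        pullback q (Spec.map (CommRingCat.ofHom (algebraMap k k')))),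
      e'.hom ≫ pullback.snd q _ = pullback.snd p _ := by
  haveI : IsLocallyNoetherian X := LocallyOfFiniteType.isLocallyNoetherian p
  haveI : IsLocallyNoetherian Y := LocallyOfFiniteType.isLocallyNoetherian q
  haveI : LocallyOfFinitePresentation p := inferInstance
  haveI : LocallyOfFinitePresentation q := inferInstance
  haveI : QuasiSeparated p := inferInstance
  haveI : QuasiSeparated q := inferInstance
  obtain ⟨A, hA, a, ha⟩ := exists_fg_iso p q e he
  haveI : Algebra.FiniteType k A := (Subalgebra.fg_iff_finiteType A).1 hA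
  obtain ⟨k', _, _, hfin, ⟨φ⟩⟩ := exists_finite_point (k := k) A
  refine ⟨k', _, _, hfin, exists_bc_iso p q _ (Spec.map (CommRingCat.ofHom φ.toRingHom)) _ ?_ a ha⟩
  rw [← Spec.map_comp, ← CommRingCat.ofHom_comp]
  exact congrArg (fun f => Spec.map (CommRingCat.ofHom f)) (RingHom.ext fun x => φ.commutes x)

end Groth.Agent.FieldExt12
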