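import Mathlib.AlgebraicGeometry.Geometrically.Integral
import Mathlib.Algebra.MvPolynomial.Nilpotent
import Mathlib.RingTheory.TensorProduct.MvPolynomial
import Mathlib.RingTheory.TensorProduct.Quotient
import Mathlib.RingTheory.Jacobson.Ring
import Mathlib.FieldTheory.IsAlgClosed.Basic
import Mathlib.RingTheory.Polynomial.UniqueFactorization

/-!
# Geometric irreducibility of polynomials
-/

universe u

open CategoryTheory CategoryTheory.Limits AlgebraicGeometry TensorProduct MvPolynomial

set_option linter.style.haveILetI false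

noncomputable section

namespace Groth.Agent.FieldExt12

variable {σ : Type*}

theorem exists_coeff_ne_zero {K : Type*} [Field K] {P : MvPolynomial σ K} (hP : P ≠ 0)
    (hu : ¬ IsUnit P) : ∃ m, m ≠ 0 ∧ coeff m P ≠ 0 := by
  by_contra! h
  refine hu (MvPolynomial.isUnit_iff.2 ⟨?_, fun i hi => ⟨1, by rw [pow_one]; exact h i hi⟩⟩)
  refine isUnit_iff_ne_zero.2 fun h0 => hP (MvPolynomial.ext _ _ fun m => ?_)
  rcases eq_or_ne m 0 with rfl | hm
  · rw [coeff_zero]; exact h0
  · rw [coeff_zero]; exact h m hm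

theorem not_isUnit_of_coeff_ne_zero {K : Type*} [CommRing K] [IsReduced K] {P : MvPolynomial σ K}
    {m : σ →₀ ℕ} (hm : m ≠ 0) (h : coeff m P ≠ 0) : ¬ IsUnit P := fun hu =>
  h ((MvPolynomial.isUnit_iff.1 hu).2 m hm).eq_zero

/-- Irreducibility descends along field extensions. -/
theorem irreducible_of_map {K L : Type*} [Field K] [Field L] (f : K →+* L) {P : MvPolynomial σ K}
    (h : Irreducible (map f P)) : Irreducible P := by
  have key : ∀ G : MvPolynomial σ K, IsUnit (map f G) → IsUnit G := fun G hG => by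
    by_contra hu
    have hne : G ≠ 0 := fun h0 => not_isUnit_zero (by rw [h0, map_zero] at hG; exact hG)
    obtain ⟨m, hm, hc⟩ := exists_coeff_ne_zero hne hu
    exact not_isUnit_of_coeff_ne_zero hm
      (by rw [MvPolynomial.coeff_map]; exact (_root_.map_ne_zero f).2 hc) hG
  constructor
  · exact fun hu => h.1 (hu.map _)
  · intro a b hab
    exact (h.2 (by rw [hab, map_mul])).imp (key a) (key b)

/-- Irreducibility over an algebraically closed field is stable under extensions. -/
theorem irreducible_map_of_isAlgClosed {Ω L : Type*} [Field Ω] [IsAlgClosed Ω] [Field L]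
    [Algebra Ω L] {P : MvPolynomial σ Ω} (h : Irreducible P) :
    Irreducible (map (algebraMap Ω L) P) := by
  classical
  have hinj : Function.Injective (map (σ := σ) (algebraMap Ω L)) :=
    map_injective _ (algebraMap Ω L).injective
  obtain ⟨m₀, hm₀, hc₀⟩ := exists_coeff_ne_zero h.ne_zero h.not_isUnit
  refine ⟨not_isUnit_of_coeff_ne_zero hm₀
    (by rw [MvPolynomial.coeff_map]; exact (_root_.map_ne_zero _).2 hc₀), fun a b hab => ?_⟩
  by_contra! hcon
  have hab0 : a * b ≠ 0 := hab ▸ fun h0 => h.ne_zero (hinj (by rw [h0, map_zero]))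
  obtain ⟨m, hm, hma⟩ := exists_coeff_ne_zero (left_ne_zero_of_mul hab0) hcon.1
  obtain ⟨n, hn, hnb⟩ := exists_coeff_ne_zero (right_ne_zero_of_mul hab0) hcon.2
  let s : Finset L := a.coeffs ∪ b.coeffs ∪ {(coeff m a * coeff n b)⁻¹}
  let R : Subalgebra Ω L := Algebra.adjoin Ω (s : Set L)
  haveI : Algebra.FiniteType Ω R :=
    (Subalgebra.fg_iff_finiteType R).1 (Subalgebra.fg_adjoin_finset s)
  obtain ⟨I, hI⟩ := Ideal.exists_maximal R
  letI := Ideal.Quotient.field I
  haveI : Algebra.FiniteType Ω (R ⧸ I) :=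
    Algebra.FiniteType.of_surjective (Ideal.Quotient.mkₐ Ω I) Ideal.Quotient.mk_surjective
  haveI : Module.Finite Ω (R ⧸ I) := finite_of_finite_type_of_isJacobsonRing Ω (R ⧸ I)
  let e : Ω ≃ₐ[Ω] (R ⧸ I) := AlgEquiv.ofBijective (Algebra.ofId Ω (R ⧸ I))
    IsAlgClosed.algebraMap_bijective_of_isIntegral
  let φ : R →ₐ[Ω] Ω := e.symm.toAlgHom.comp (Ideal.Quotient.mkₐ Ω I)
  have hs : ∀ x ∈ s, x ∈ R := fun x hx => Algebra.subset_adjoin hx
  have hlift : ∀ G : MvPolynomial σ L, G.coeffs ⊆ s →
      ∃ G' : MvPolynomial σ R, map R.val.toRingHom G' = G := fun G hG => by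
    obtain ⟨G', hG'⟩ := (mem_range_map_iff_coeffs_subset (f := R.val.toRingHom) (x := G)).2
      fun x hx => ⟨⟨x, hs x (hG hx)⟩, rfl⟩
    exact ⟨G', hG'⟩
  obtain ⟨a', ha'⟩ := hlift a (Finset.subset_union_left.trans Finset.subset_union_left)
  obtain ⟨b', hb'⟩ := hlift b (Finset.subset_union_right.trans Finset.subset_union_left)
  have heq : map (algebraMap Ω R) P = a' * b' := by
    refine map_injective R.val.toRingHom Subtype.val_injective ?_
    rw [map_mul, ha', hb', ← hab, MvPolynomial.map_map]
    rfl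
  have hP : P = map φ.toRingHom a' * map φ.toRingHom b' := by
    rw [← map_mul, ← heq, MvPolynomial.map_map,
      show φ.toRingHom.comp (algebraMap Ω R) = RingHom.id Ω from RingHom.ext fun x => φ.commutes x,
      MvPolynomial.map_id]
  have hne : φ (coeff m a') * φ (coeff n b') ≠ 0 := by
    let w : R := ⟨(coeff m a * coeff n b)⁻¹, hs _ (Finset.mem_union_right _ (by simp))⟩
    have hw : coeff m a' * coeff n b' * w = 1 := by
      refine Subtype.val_injective ?_
      show R.val (coeff m a') * R.val (coeff n b') * (coeff m a * coeff n b)⁻¹ = 1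
      rw [show R.val (coeff m a') = coeff m a by rw [← ha', MvPolynomial.coeff_map]; rfl,
        show R.val (coeff n b') = coeff n b by rw [← hb', MvPolynomial.coeff_map]; rfl]
      exact mul_inv_cancel₀ (mul_ne_zero hma hnb)
    have h1 := congrArg φ hw
    rw [map_mul, map_mul, map_one] at h1
    exact left_ne_zero_of_mul_eq_one h1
  rcases h.2 hP with hu | hu
  · exact not_isUnit_of_coeff_ne_zero hm
      (by rw [MvPolynomial.coeff_map]; exact left_ne_zero_of_mul hne) hu
  · exact not_isUnit_of_coeff_ne_zero hn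
      (by rw [MvPolynomial.coeff_map]; exact right_ne_zero_of_mul hne) hu

/-- Irreducibility over an algebraically closed extension implies irreducibility over every
extension. -/
theorem irreducible_map_all {k Ω K : Type u} [Field k] [Field Ω] [IsAlgClosed Ω] [Algebra k Ω]
    [Field K] [Algebra k K] {P : MvPolynomial σ k} (h : Irreducible (map (algebraMap k Ω) P)) :
    Irreducible (map (algebraMap k K) P) := by
  obtain ⟨I, hI⟩ := Ideal.exists_maximal (K ⊗[k] Ω)
  letI := Ideal.Quotient.field I
  let fK : K →ₐ[k] (K ⊗[k] Ω) ⧸ I :=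
    (Ideal.Quotient.mkₐ k I).comp Algebra.TensorProduct.includeLeft
  let fΩ : Ω →ₐ[k] (K ⊗[k] Ω) ⧸ I :=
    (Ideal.Quotient.mkₐ k I).comp Algebra.TensorProduct.includeRight
  letI : Algebra Ω ((K ⊗[k] Ω) ⧸ I) := fΩ.toRingHom.toAlgebra
  have h1 := irreducible_map_of_isAlgClosed (L := (K ⊗[k] Ω) ⧸ I) h
  rw [RingHom.algebraMap_toAlgebra, MvPolynomial.map_map,
    show fΩ.toRingHom.comp (algebraMap k Ω) = fK.toRingHom.comp (algebraMap k K) from
      RingHom.ext fun x => (fΩ.commutes x).trans (fK.commutes x).symm,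
    ← MvPolynomial.map_map] at h1
  exact irreducible_of_map _ h1

variable {k : Type u} [Field k] {n : ℕ}

instance : ObjectProperty.IsClosedUnderIsomorphisms (C := Scheme.{u}) (IsIntegral ·) where
  of_iso e _ := IsIntegral.of_isIso e.hom

/-- The base change of a hypersurface ring. -/
def tensorQuotEquiv (K : Type u) [Field K] [Algebra k K] (F : MvPolynomial (Fin n) k) :
    (K ⊗[k] (MvPolynomial (Fin n) k ⧸ Ideal.span ({F} : Set (MvPolynomial (Fin n) k)))) ≃+*
      MvPolynomial (Fin n) K ⧸
        Ideal.span ({map (algebraMap k K) F} : Set (MvPolynomial (Fin n) K)) :=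
  (Algebra.TensorProduct.tensorQuotientEquiv (R := k) k (MvPolynomial (Fin n) k) K
      (Ideal.span {F})).toRingEquiv.trans <|
    Ideal.quotientEquiv _ _ (algebraTensorAlgEquiv k K).toRingEquiv (by
      rw [Ideal.map_span, Set.image_singleton, Ideal.map_span, Set.image_singleton]
      congr 2
      show map (algebraMap k K) F = algebraTensorAlgEquiv k K ((1 : K) ⊗ₜ[k] F)
      rw [algebraTensorAlgEquiv_tmul, one_smul])

theorem geometricallyIntegral_iff (F : MvPolynomial (Fin n) k) (hF : F ≠ 0) :
    GeometricallyIntegral (Spec.map (CommRingCat.ofHom (algebraMap k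
      (MvPolynomial (Fin n) k ⧸ Ideal.span ({F} : Set (MvPolynomial (Fin n) k)))))) ↔
      ∀ (K : Type u) [Field K] [Algebra k K], Irreducible (map (algebraMap k K) F) := by
  let A := MvPolynomial (Fin n) k ⧸ Ideal.span ({F} : Set (MvPolynomial (Fin n) k))
  have key : ∀ (K : Type u) [Field K] [Algebra k K],
      IsIntegral (pullback (Spec.map (CommRingCat.ofHom (algebraMap k A)))
        (Spec.map (CommRingCat.ofHom (algebraMap k K)))) ↔ Irreducible (map (algebraMap k K) F) := by
    intro K _ _
    have hne : map (algebraMap k K) F ≠ 0 := fun h0 =>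
      hF (map_injective _ (algebraMap k K).injective (by rw [h0, map_zero]))
    have e1 : IsIntegral (pullback (Spec.map (CommRingCat.ofHom (algebraMap k A)))
        (Spec.map (CommRingCat.ofHom (algebraMap k K)))) ↔
        IsIntegral (Spec (CommRingCat.of (K ⊗[k] A))) := by
      let e := pullbackSymmetry (Spec.map (CommRingCat.ofHom (algebraMap k A)))
        (Spec.map (CommRingCat.ofHom (algebraMap k K))) ≪≫ pullbackSpecIso k K A
      exact ⟨fun _ => IsIntegral.of_isIso e.hom, fun _ => IsIntegral.of_isIso e.inv⟩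
    rw [e1, affine_isIntegral_iff]
    have e2 : IsDomain (K ⊗[k] A) ↔
        (Ideal.span ({map (algebraMap k K) F} : Set (MvPolynomial (Fin n) K))).IsPrime := by
      rw [← Ideal.Quotient.isDomain_iff_prime]
      exact ⟨fun _ => MulEquiv.isDomain (K ⊗[k] A) (tensorQuotEquiv K F).symm.toMulEquiv,
        fun _ => MulEquiv.isDomain _ (tensorQuotEquiv K F).toMulEquiv⟩
    rw [show (IsDomain (CommRingCat.of (K ⊗[k] A)) ↔ IsDomain (K ⊗[k] A)) from Iff.rfl, e2,
      Ideal.span_singleton_prime hne, UniqueFactorizationMonoid.irreducible_iff_prime]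
  rw [AlgebraicGeometry.geometricallyIntegral_iff, geometrically_iff_of_isClosedUnderIsomorphisms]
  refine ⟨fun h K _ _ => (key K).1 (h K _), fun h K _ y => ?_⟩
  obtain ⟨φ, rfl⟩ := Spec.map_surjective y
  letI : Algebra k K := φ.hom.toAlgebra
  exact (key K).2 (h K)

theorem polynomial_tfae (Ω : Type u) [Field Ω] [Algebra k Ω] [IsAlgClosed Ω]
    (F : MvPolynomial (Fin n) k) (hF : F ≠ 0) :
    List.TFAE [
      GeometricallyIntegral (Spec.map (CommRingCat.ofHom (algebraMap k
        (MvPolynomial (Fin n) k ⧸ Ideal.span ({F} : Set (MvPolynomial (Fin n) k)))))),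
      ∀ (K : Type u) [Field K] [Algebra k K], Irreducible (map (algebraMap k K) F),
      Irreducible (map (algebraMap k Ω) F)] := by
  tfae_have 1 ↔ 2 := geometricallyIntegral_iff F hF
  tfae_have 2 → 3 := fun h => h Ω
  tfae_have 3 → 2 := fun h K _ _ => irreducible_map_all h
  tfae_finish

end Groth.Agent.FieldExt12
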